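import Groth.Agent.MeroDepth.Basic
import Groth.Agent.MeroX.Kmod
import Mathlib.AlgebraicGeometry.Stalk

/-!
# Supports of divisors of meromorphic functions; the local case
-/

set_option autoImplicit false
universe u

open CategoryTheory AlgebraicGeometry TopologicalSpace IsLocalRing

namespace Groth.Agent.MeroDepth

variable {X : Scheme.{u}} [IsLocallyNoetherian X]

theorem germOf_eq_one_iff {U : X.Opens} (f : (Γ(Mero.kmod X, U))ˣ) (y : U) :
    Mero.germOf f y = 1 ↔ Reg y.1 (Mero.evalK X U y f.val) ∧ Reg y.1 (Mero.evalK X U y f⁻¹.val) :=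
  mk_eq_one_iff y.1 (Units.map (Mero.evalK X U y).toMonoidHom f)

/-- A point of the support has a generization of depth one in the support. -/
theorem exists_depth_one_supp (D : Mero.Divisor X) {x : X} (hx : x ∈ Mero.supp D) :
    ∃ y : X, y ⤳ x ∧ LocCoh.depth (X.presheaf.stalk y) (X.presheaf.stalk y) = 1 ∧ y ∈ Mero.supp D := by
  obtain ⟨U, hxU, f, hU⟩ := D.2 x
  have hx' : ¬ Mero.germOf f ⟨x, hxU⟩ = 1 := fun h => hx ((hU ⟨x, hxU⟩).trans h)
  rw [germOf_eq_one_iff, not_and_or] at hx'
  rcases hx' with h | h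
  · obtain ⟨y, hy, hd, hfy⟩ := exists_depth_one_point f ⟨x, hxU⟩ h
    exact ⟨y.1, hy, hd, fun h1 => hfy ((germOf_eq_one_iff f y).1 ((hU y).symm.trans h1)).1⟩
  · obtain ⟨y, hy, hd, hfy⟩ := exists_depth_one_point f⁻¹ ⟨x, hxU⟩ h
    exact ⟨y.1, hy, hd, fun h1 => hfy ((germOf_eq_one_iff f y).1 ((hU y).symm.trans h1)).2⟩

theorem eq_top_of_closedPoint_mem {A : CommRingCat.{u}} [IsLocalRing A] {U : (Spec A).Opens}
    (h : (closedPoint A : Spec A) ∈ U) : U = ⊤ :=
  top_le_iff.mp fun y _ => (specializes_closedPoint y).mem_open U.isOpen h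

theorem isUnit_of_closedPoint_mem {A : CommRingCat.{u}} [IsLocalRing A] (s : Γ(Spec A, ⊤))
    (h : IsUnit ((Spec A).presheaf.germ ⊤ (closedPoint A) trivial s)) : IsUnit s :=
  (Spec A).toLocallyRingedSpace.toRingedSpace.isUnit_of_isUnit_germ ⊤ s fun y hy =>
    ((Spec A).mem_basicOpen s y hy).mp <|
      (eq_top_of_closedPoint_mem (((Spec A).mem_basicOpen s (closedPoint A) trivial).mpr h)).ge hy

/-- The local criterion. -/
theorem divisor_eq_one_iff_depth (A : Type u) [CommRing A] [IsNoetherianRing A] [IsLocalRing A] :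
    (∀ D : Mero.Divisor (Spec (CommRingCat.of A)), D = 1) ↔ LocCoh.depth A A = 0 := by
  let R := CommRingCat.of A
  haveI : IsLocalRing R := inferInstanceAs (IsLocalRing A)
  let x₀ : Spec R := closedPoint R
  have hd : LocCoh.depth A A = 0 ↔ maximalIdeal A ∈ associatedPrimes A A := by
    rw [← not_iff_not, ← Alg6.one_le_depth_iff, ENat.one_le_iff_ne_zero]
  rw [hd]
  constructor
  · intro h
    by_contra hass
    obtain ⟨a, ha, hreg⟩ := (Alg6.exists_isSMulRegular_mem_iff (M := A) (maximalIdeal A)).mpr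
      (fun p hp hle => hass (by
        rwa [(maximalIdeal.isMaximal A).eq_of_le (IsAssociatedPrime.isPrime hp).ne_top hle]))
    have ha' : a ∈ nonZeroDivisors A :=
      mem_nonZeroDivisors_iff_right.2 fun x hx => hreg (show a • x = a • 0 by
        rw [smul_zero, smul_eq_mul, mul_comm, hx])
    let e := (Scheme.ΓSpecIso R).commRingCatIsoToRingEquiv
    have hs : e.symm a ∈ nonZeroDivisors Γ(Spec R, ⊤) := by
      refine mem_nonZeroDivisors_iff_right.2 fun x hx => e.injective ?_
      rw [map_zero]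
      refine mem_nonZeroDivisors_iff_right.1 ha' _ ?_
      have := congrArg e hx
      rwa [map_mul, map_zero, RingEquiv.apply_symm_apply] at this
    have hs' : e.symm a ∈ Mero.regSub (Spec R) ⊤ :=
      (MeroX.regSub_eq_nonZeroDivisors (isAffineOpen_top (Spec R))).symm ▸ hs
    obtain ⟨f, hf⟩ := MeroX.isUnit_toK hs'
    have h1 : Mero.germOf f ⟨x₀, trivial⟩ = 1 := congrArg (fun D : Mero.Divisor _ => D.1 x₀) (h (Mero.div f))
    obtain ⟨-, c, hc⟩ := (germOf_eq_one_iff f _).1 h1
    have hu : IsUnit ((Spec R).presheaf.germ ⊤ x₀ trivial (e.symm a)) := by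
      refine .of_mul_eq_one c (Mero.algebraMap_KStalk_injective x₀ ?_)
      rw [map_mul, map_one, hc]
      refine Eq.trans ?_ (congrArg (fun t => (Mero.evalK (Spec R) ⊤ ⟨x₀, trivial⟩) t) f.mul_inv |>.trans (map_one _))
      rw [map_mul, hf]
      rfl
    have hu' : IsUnit (e.symm a) := isUnit_of_closedPoint_mem _ hu
    exact (mem_maximalIdeal a).mp ha (by simpa using hu'.map e)
  · intro hass D
    have hunit : ∀ b ∈ nonZeroDivisors ((Spec R).presheaf.stalk x₀), IsUnit b := by
      intro b hb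
      let e := (stalkClosedPointIso R).commRingCatIsoToRingEquiv
      suffices IsUnit (e b) by simpa using this.map e.symm
      by_contra hb'
      refine Alg6.isSMulRegular_iff_forall_ass.mp ?_ _ hass ((mem_maximalIdeal (e b)).mpr hb')
      intro u v huv
      have : e.symm u * b = e.symm v * b := e.injective (by
        rw [map_mul, map_mul, RingEquiv.apply_symm_apply, RingEquiv.apply_symm_apply]
        exact (mul_comm _ _).trans ((show e b * u = e b * v from huv).trans (mul_comm _ _)))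
      simpa using (mul_cancel_right_mem_nonZeroDivisors hb).mp this
    refine Subtype.ext (funext fun y => ?_)
    obtain ⟨U, hxU, f, hU⟩ := D.2 x₀
    obtain rfl := eq_top_of_closedPoint_mem hxU
    refine (hU ⟨y, trivial⟩).trans ((germOf_eq_one_iff f _).2 ?_)
    have key : ∀ g : Γ(Mero.kmod (Spec R), ⊤), Reg y (Mero.evalK (Spec R) ⊤ ⟨y, trivial⟩ g) := by
      intro g
      obtain ⟨W, hxW, i, a, b, hab⟩ := g.2 ⟨x₀, trivial⟩
      obtain rfl := eq_top_of_closedPoint_mem hxW
      have hb : IsUnit b.1 := by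
        refine isUnit_of_closedPoint_mem b.1 ?_
        exact hunit _ (Mero.regStalk_le_nonZeroDivisors x₀ (Mero.regGerm (⟨x₀, trivial⟩ : (⊤ : (Spec R).Opens)) b).2)
      obtain ⟨v, hv⟩ := hb
      refine ⟨(Spec R).presheaf.germ ⊤ y trivial (a * ↑v⁻¹), ?_⟩
      have hval : Mero.evalK (Spec R) ⊤ ⟨y, trivial⟩ g = _ := hab ⟨y, trivial⟩
      rw [hval]
      change (LocalizedModule.mk _ 1 : Mero.KStalk (Spec R) y) = _
      refine LocalizedModule.mk_eq.2 ⟨1, ?_⟩
      simp only [Submonoid.smul_def, smul_eq_mul, OneMemClass.coe_one, one_mul]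
      show (Spec R).presheaf.germ ⊤ y trivial b.1 * (Spec R).presheaf.germ ⊤ y trivial (a * ↑v⁻¹) = _
      rw [← map_mul, ← hv, mul_left_comm, Units.mul_inv, mul_one]
    exact ⟨key _, key _⟩

end Groth.Agent.MeroDepth
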