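import Groth.Agent.Alg6.AssDepth
import Groth.Agent.Alg6.LocLoc
import Groth.Agent.AssPtX.Noeth
import Groth.Agent.MeroX.Basic
import Groth.Prelude.Def_MeroDiv
import Mathlib.AlgebraicGeometry.Noetherian
import Mathlib.RingTheory.Ideal.MinimalPrime.Basic

/-!
# Divisors of meromorphic functions are determined in depth one
-/

set_option autoImplicit false
universe u

open CategoryTheory AlgebraicGeometry TopologicalSpace IsLocalRing

namespace Groth.Agent.MeroDepth

/-- A fraction not defined at `p` is not defined at some depth-one prime below `p`. -/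
theorem exists_depth_one_prime {A : Type u} [CommRing A] [IsNoetherianRing A] (p : Ideal A) [p.IsPrime]
    (a b : A) (hb : b ∈ nonZeroDivisors A) (hf : ∀ c : A, c ∉ p → ¬ b ∣ c * a) :
    ∃ q : PrimeSpectrum A, q.asIdeal ≤ p ∧
      LocCoh.depth (Localization.AtPrime q.asIdeal) (LocalizedModule q.asIdeal.primeCompl A) = 1 ∧
      ∀ c : A, c ∉ q.asIdeal → ¬ b ∣ c * a := by
  have key : ∀ c : A, (c • (Submodule.Quotient.mk a : QuotSMulTop b A) = 0) ↔ b ∣ c * a := by
    intro c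
    rw [← Submodule.Quotient.mk_smul, Alg6.mem_pointwise_smul_top_iff]
    simp only [smul_eq_mul, dvd_def]
    exact exists_congr fun _ => eq_comm
  let z : QuotSMulTop b A := Submodule.Quotient.mk a
  let N : Submodule A (QuotSMulTop b A) := Submodule.span A {z}
  have hann : N.annihilator ≤ p := by
    intro c hc
    by_contra hcp
    rw [Submodule.mem_annihilator_span_singleton] at hc
    exact hf c hcp ((key c).mp hc)
  obtain ⟨q, hq, hqp⟩ := Ideal.exists_minimalPrimes_le hann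
  haveI : q.IsPrime := hq.1.1
  have hann' : Module.annihilator A N = N.annihilator := rfl
  have hassN : q ∈ associatedPrimes A N :=
    Module.associatedPrimes.minimalPrimes_annihilator_subset_associatedPrimes A N (hann' ▸ hq)
  have hass : q ∈ associatedPrimes A (QuotSMulTop b A) :=
    associatedPrimes.subset_of_injective (f := N.subtype) Subtype.val_injective hassN
  have hbq : b ∈ q := hq.1.2 (by
    rw [Submodule.mem_annihilator_span_singleton]
    exact (key b).mpr ⟨a, rfl⟩)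
  have hreg : IsSMulRegular A b :=
    fun u v h => (mul_cancel_left_mem_nonZeroDivisors hb).mp h
  refine ⟨⟨q, inferInstance⟩, hqp, le_antisymm ?_ ?_, fun c hc h => ?_⟩
  · have h2 := mt (Alg6.two_le_depth_atPrime_iff q hbq hreg).mp (fun h => h hass)
    rw [not_le, ← one_add_one_eq_two] at h2
    exact ENat.lt_add_one_iff (by simp) |>.mp h2
  · refine (Alg6.one_le_depth_atPrime_iff q).mpr fun h => ?_
    exact Alg6.isSMulRegular_iff_forall_ass.mp hreg q h hbq
  · refine hc (hq.1.2 ?_)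
    rw [Submodule.mem_annihilator_span_singleton]
    exact (key c).mpr h

/-- Divisibility in a localization. -/
theorem algebraMap_dvd_iff {A : Type u} [CommRing A] (M : Submonoid A) (S : Type u) [CommRing S]
    [Algebra A S] [IsLocalization M S] (a b : A) :
    algebraMap A S b ∣ algebraMap A S a ↔ ∃ c ∈ M, b ∣ c * a := by
  constructor
  · rintro ⟨s, hs⟩
    obtain ⟨r, m, rfl⟩ := IsLocalization.exists_mk'_eq M s
    have h1 : algebraMap A S (a * m) = algebraMap A S (b * r) := by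
      rw [map_mul, map_mul, hs, mul_assoc, IsLocalization.mk'_spec]
    obtain ⟨t, ht⟩ := (IsLocalization.eq_iff_exists M S).mp h1
    exact ⟨t * m, M.mul_mem t.2 m.2, t * r, by linear_combination ht⟩
  · rintro ⟨c, hc, d, hd⟩
    obtain ⟨v, hv⟩ := IsLocalization.map_units S (⟨c, hc⟩ : M)
    refine ⟨algebraMap A S d * ↑v⁻¹, ?_⟩
    rw [← mul_assoc, ← map_mul, ← hd, map_mul, mul_comm (algebraMap A S c), mul_assoc]
    erw [← hv, Units.mul_inv, mul_one]

variable {X : Scheme.{u}} [IsLocallyNoetherian X]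

/-- `f` is regular at `y`. -/
def Reg (y : X) (f : Mero.KStalk X y) : Prop :=
  ∃ a : X.presheaf.stalk y, algebraMap (X.presheaf.stalk y) (Mero.KStalk X y) a = f

theorem mk_eq_one_iff (y : X) (f : (Mero.KStalk X y)ˣ) :
    (QuotientGroup.mk f : Mero.Germ X y) = 1 ↔
      Reg y (f : Mero.KStalk X y) ∧ Reg y ((f⁻¹ : (Mero.KStalk X y)ˣ) : Mero.KStalk X y) := by
  rw [QuotientGroup.eq_one_iff]
  constructor
  · rintro ⟨v, rfl⟩
    exact ⟨⟨v, rfl⟩, ⟨(v⁻¹ : (X.presheaf.stalk y)ˣ), by rw [← map_inv]; rfl⟩⟩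
  · rintro ⟨⟨a, ha⟩, ⟨b, hb⟩⟩
    have hab : a * b = 1 := Mero.algebraMap_KStalk_injective y (by
      rw [map_mul, ha, hb, map_one, ← Units.val_mul, mul_inv_cancel, Units.val_one])
    exact ⟨⟨a, b, hab, by rw [mul_comm, hab]⟩, Units.ext ha⟩

theorem isEffectiveAt_iff {D : Mero.Divisor X} {y : X} {f : (Mero.KStalk X y)ˣ}
    (h : D.1 y = QuotientGroup.mk f) : Mero.IsEffectiveAt D y ↔ Reg y (f : Mero.KStalk X y) := by
  constructor
  · rintro ⟨a, he⟩
    rw [h, eq_comm, QuotientGroup.eq] at he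
    obtain ⟨v, hv⟩ := he
    refine ⟨(a : X.presheaf.stalk y) * v, ?_⟩
    have hf : f = (IsLocalization.map_units (Mero.KStalk X y) a).unit *
        Units.map (algebraMap (X.presheaf.stalk y) (Mero.KStalk X y)).toMonoidHom v := by
      rw [hv, mul_inv_cancel_left]
    rw [map_mul, hf, Units.val_mul, IsUnit.unit_spec]
    rfl
  · rintro ⟨a, ha⟩
    have hna : a ∈ nonZeroDivisors (X.presheaf.stalk y) := by
      rw [mem_nonZeroDivisors_iff_right]
      intro x hx
      apply Mero.algebraMap_KStalk_injective y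
      rw [map_zero]
      have h2 := congrArg (algebraMap (X.presheaf.stalk y) (Mero.KStalk X y)) hx
      rw [map_mul, ha, map_zero] at h2
      exact f.mul_left_eq_zero.mp h2
    refine ⟨⟨a, (AssPtX.regStalk_eq y).symm ▸ hna⟩, h.trans ?_⟩
    congr 1
    exact Units.ext ha.symm

/-- A unit meromorphic function not regular at `x` is not regular at some depth-one generization. -/
theorem exists_depth_one_point {U : X.Opens} (f : (Γ(Mero.kmod X, U))ˣ) (x : U)
    (hf : ¬ Reg x.1 (Mero.evalK X U x f.val)) :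
    ∃ y : U, y.1 ⤳ x.1 ∧ LocCoh.depth (X.presheaf.stalk y.1) (X.presheaf.stalk y.1) = 1 ∧
      ¬ Reg y.1 (Mero.evalK X U y f.val) := by
  obtain ⟨W, hxW, i, a₀, b₀, hab⟩ := f.val.2 x
  obtain ⟨V, hV, hxV, hVW⟩ := exists_isAffineOpen_mem_and_subset (X := X) (x := x.1) (U := W) hxW
  haveI : IsNoetherianRing Γ(X, V) := IsLocallyNoetherian.component_noetherian ⟨V, hV⟩
  replace hVW : V ≤ W := hVW
  let a : Γ(X, V) := X.presheaf.map (homOfLE hVW).op a₀
  let b : Γ(X, V) := X.presheaf.map (homOfLE hVW).op b₀.1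
  have hb : b ∈ nonZeroDivisors Γ(X, V) :=
    MeroX.regSub_eq_nonZeroDivisors hV ▸ Mero.regSub_res _ b₀.2
  have hreg : ∀ (y : X) (hy : y ∈ V), Reg y (Mero.evalK X U ⟨y, i.le (hVW hy)⟩ f.val) ↔
      ∃ c ∉ (hV.primeIdealOf ⟨y, hy⟩).asIdeal, b ∣ c * a := by
    intro y hy
    letI := X.presheaf.algebra_section_stalk (U := V) ⟨y, hy⟩
    haveI := hV.isLocalization_stalk ⟨y, hy⟩
    refine Iff.trans ?_ (algebraMap_dvd_iff (hV.primeIdealOf ⟨y, hy⟩).asIdeal.primeCompl (X.presheaf.stalk y) a b)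
    have hval : Mero.evalK X U ⟨y, i.le (hVW hy)⟩ f.val =
        LocalizedModule.mk (X.presheaf.germ W y (hVW hy) a₀) (Mero.regGerm ⟨y, hVW hy⟩ b₀) :=
      hab ⟨y, hVW hy⟩
    have ea : algebraMap Γ(X, V) (X.presheaf.stalk y) a = X.presheaf.germ W y (hVW hy) a₀ :=
      TopCat.Presheaf.germ_res_apply X.presheaf (homOfLE hVW) y hy a₀
    have eb : algebraMap Γ(X, V) (X.presheaf.stalk y) b = X.presheaf.germ W y (hVW hy) b₀.1 :=
      TopCat.Presheaf.germ_res_apply X.presheaf (homOfLE hVW) y hy b₀.1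
    rw [ea, eb]
    constructor
    · rintro ⟨s, hs⟩
      refine ⟨s, Mero.algebraMap_KStalk_injective y ?_⟩
      rw [map_mul, hs, hval]
      change _ = (LocalizedModule.mk (X.presheaf.germ W y (hVW hy) b₀.1) 1 : Mero.KStalk X y) * _
      refine Eq.trans ?_ LocalizedModule.mk_mul_mk.symm
      change (LocalizedModule.mk (X.presheaf.germ W y (hVW hy) a₀) 1 : Mero.KStalk X y) = _
      exact LocalizedModule.mk_eq.2 ⟨1, by simp [Submonoid.smul_def, mul_comm]⟩
    · rintro ⟨s, hs⟩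
      refine ⟨s, ?_⟩
      rw [hval]
      change (LocalizedModule.mk s 1 : Mero.KStalk X y) = _
      exact LocalizedModule.mk_eq.2 ⟨1, by simp [Submonoid.smul_def, hs, mul_comm]⟩
  have hf' : ∀ c : Γ(X, V), c ∉ (hV.primeIdealOf ⟨x.1, hxV⟩).asIdeal → ¬ b ∣ c * a :=
    fun c hc h => hf ((hreg x.1 hxV).mpr ⟨c, hc, h⟩)
  obtain ⟨q, hqp, hdepth, hq⟩ := exists_depth_one_prime _ a b hb hf'
  have hyV : hV.fromSpec q ∈ V := by
    rw [← SetLike.mem_coe, ← hV.range_fromSpec]
    exact Set.mem_range_self q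
  haveI := hV.isOpenImmersion_fromSpec
  have hq' : hV.primeIdealOf ⟨hV.fromSpec q, hyV⟩ = q :=
    hV.fromSpec.isOpenEmbedding.injective (hV.fromSpec_primeIdealOf _)
  letI := X.presheaf.algebra_section_stalk (U := V) ⟨hV.fromSpec q, hyV⟩
  haveI : IsLocalization.AtPrime (X.presheaf.stalk (hV.fromSpec q)) q.asIdeal := by
    have := hV.isLocalization_stalk ⟨hV.fromSpec q, hyV⟩
    rwa [hq'] at this
  refine ⟨⟨hV.fromSpec q, i.le (hVW hyV)⟩, ?_, ?_, fun h => ?_⟩
  · show hV.fromSpec q ⤳ x.1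
    rw [← hV.fromSpec_primeIdealOf ⟨x.1, hxV⟩]
    exact ((PrimeSpectrum.le_iff_specializes q _).mp hqp).map hV.fromSpec.continuous
  · exact (Alg6.depth_localized_eq q.asIdeal _
      (Algebra.linearMap Γ(X, V) (X.presheaf.stalk (hV.fromSpec q)))).trans hdepth
  · obtain ⟨c, hc, hcd⟩ := (hreg _ hyV).mp h
    rw [hq'] at hc
    exact hq c hc hcd

theorem isEffective_of_depth_one (D : Mero.Divisor X)
    (h : ∀ x : X, LocCoh.depth (X.presheaf.stalk x) (X.presheaf.stalk x) = 1 → Mero.IsEffectiveAt D x) :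
    Mero.IsEffective D := by
  intro x
  obtain ⟨U, hxU, f, hU⟩ := D.2 x
  rw [isEffectiveAt_iff (hU ⟨x, hxU⟩)]
  by_contra hf
  obtain ⟨y, -, hd, hfy⟩ := exists_depth_one_point f ⟨x, hxU⟩ hf
  exact hfy ((isEffectiveAt_iff (hU y)).mp (h y.1 hd))

theorem eq_one_of_depth_one (D : Mero.Divisor X)
    (h : ∀ x : X, LocCoh.depth (X.presheaf.stalk x) (X.presheaf.stalk x) = 1 → D.1 x = 1) : D = 1 := by
  have h' : ∀ x : X, LocCoh.depth (X.presheaf.stalk x) (X.presheaf.stalk x) = 1 → (D⁻¹).1 x = 1 := fun x hx => by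
    rw [Subgroup.coe_inv, Pi.inv_apply, h x hx, inv_one]
  have eff : ∀ (E : Mero.Divisor X) (x : X), E.1 x = 1 → Mero.IsEffectiveAt E x := fun E x hx =>
    (isEffectiveAt_iff (f := 1) (hx.trans (QuotientGroup.mk_one _).symm)).mpr ⟨1, map_one _⟩
  have h1 := isEffective_of_depth_one D fun x hx => eff D x (h x hx)
  have h2 := isEffective_of_depth_one D⁻¹ fun x hx => eff D⁻¹ x (h' x hx)
  refine Subtype.ext (funext fun x => ?_)
  obtain ⟨g, hg⟩ := QuotientGroup.mk_surjective (D.1 x)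
  refine hg.symm.trans ((mk_eq_one_iff x g).mpr ⟨(isEffectiveAt_iff hg.symm).mp (h1 x),
    (isEffectiveAt_iff (f := g⁻¹) ?_).mp (h2 x)⟩)
  rw [Subgroup.coe_inv, Pi.inv_apply, ← hg, QuotientGroup.mk_inv]

end Groth.Agent.MeroDepth
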